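import Groth.Agent.Lib.FlatCx.Rank
import Mathlib.RingTheory.LocalRing.Module
import Mathlib.RingTheory.Flat.Localization

/-!
# Fibres of exact sequences `0 → M → N → Aⁿ → N' → 0`
-/

set_option autoImplicit false

universe u

open TensorProduct Module

namespace Groth.Agent.Lib.SuppLoci77.Algebra

open Groth.Agent.Lib.FlatCx.Rank

variable {A : Type u} [CommRing A]

theorem fdim_eq_finrank [Nontrivial A] {P : Type u} [AddCommGroup P] [Module A P] [Module.Free A P]
    [Module.Finite A P] (x : PrimeSpectrum A) : fdim P x = Module.finrank A P :=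
  Module.finrank_baseChange

theorem fdim_prod {M P : Type u} [AddCommGroup M] [Module A M] [AddCommGroup P] [Module A P]
    [Module.Finite A M] [Module.Finite A P] (x : PrimeSpectrum A) :
    fdim (M × P) x = fdim M x + fdim P x := by
  refine (TensorProduct.prodRight A x.asIdeal.ResidueField x.asIdeal.ResidueField M P).finrank_eq.trans ?_
  exact Module.finrank_prod

theorem fdim_closedPoint_eq_zero_iff [IsLocalRing A] {M : Type u} [AddCommGroup M] [Module A M]
    [Module.Finite A M] : fdim M (IsLocalRing.closedPoint A) = 0 ↔ Subsingleton M := by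
  constructor
  · intro h
    obtain ⟨g, hg⟩ := exists_generators_near M (IsLocalRing.closedPoint A)
    by_contra hM
    rw [not_subsingleton_iff_nontrivial] at hM
    have hr : LinearMap.range g = ⊥ := by
      rw [LinearMap.range_eq_bot]
      refine LinearMap.ext fun v => ?_
      have : v = 0 := funext fun i => (Fin.cast h i).elim0
      rw [this, map_zero, map_zero]
    haveI : Nontrivial (M ⧸ LinearMap.range g) :=
      (Submodule.quotEquivOfEqBot _ hr).toEquiv.nontrivial
    exact hg (IsLocalRing.closedPoint_mem_support A _)
  · intro h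
    exact Module.finrank_zero_of_subsingleton

theorem local_step [IsLocalRing A] {N F N' : Type u} [AddCommGroup N] [Module A N]
    [Module.Finite A N] [AddCommGroup F] [Module A F] [Module.Free A F] [Module.Finite A F]
    [AddCommGroup N'] [Module A N'] [Module.Free A N'] [Module.Finite A N']
    (u : N →ₗ[A] F) (v : F →ₗ[A] N') (hex : Function.Exact u v) (hv : Function.Surjective v) :
    (Function.Injective u → Module.Free A N) ∧
      (fdim N (IsLocalRing.closedPoint A) + fdim N' (IsLocalRing.closedPoint A) = Module.finrank A F ↔
        Function.Injective u) := by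
  let x := IsLocalRing.closedPoint A
  obtain ⟨r, hr⟩ := Module.projective_lifting_property v LinearMap.id hv
  let K := LinearMap.range u
  have hK : ∀ f : F, f - r (v f) ∈ K := fun f => by
    refine (hex _).1 ?_
    rw [map_sub, show v (r (v f)) = v f from LinearMap.congr_fun hr (v f), sub_self]
  have hvK : ∀ k : F, k ∈ K → v k = 0 := fun k hk => (hex k).2 hk
  let π : F →ₗ[A] K := LinearMap.codRestrict K (LinearMap.id - r ∘ₗ v) hK
  have hπ : ∀ k : K, π k = k := fun k => Subtype.ext (by
    change (k : F) - r (v k) = k
    rw [hvK _ k.2, map_zero, sub_zero])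
  let eF : F ≃ₗ[A] K × N' :=
    LinearEquiv.ofLinear (π.prod v) (K.subtype.coprod r)
      (LinearMap.ext fun ⟨k, n⟩ => by
        have hn : v (r n) = n := LinearMap.congr_fun hr n
        refine Prod.ext (Subtype.ext ?_) ?_
        · change ((k : F) + r n) - r (v ((k : F) + r n)) = k
          rw [map_add, hvK _ k.2, zero_add, hn, add_sub_cancel_right]
        · change v ((k : F) + r n) = n
          rw [map_add, hvK _ k.2, zero_add, hn])
      (LinearMap.ext fun f => by
        change (f - r (v f)) + r (v f) = f
        rw [sub_add_cancel])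
  have : Module.Finite A K := Module.Finite.range u
  have : Module.Projective A K :=
    Module.Projective.of_split K.subtype π (LinearMap.ext hπ)
  have : Module.Free A K := Module.free_of_flat_of_isLocalRing
  obtain ⟨s, hs⟩ := Module.projective_lifting_property u.rangeRestrict LinearMap.id
    u.surjective_rangeRestrict
  let M := LinearMap.ker u
  have hsu : ∀ n : N, u (s (u.rangeRestrict n)) = u n := fun n =>
    congrArg Subtype.val (LinearMap.congr_fun hs (u.rangeRestrict n))
  let ρ : N →ₗ[A] M := LinearMap.codRestrict M (LinearMap.id - s ∘ₗ u.rangeRestrict) fun n => by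
    rw [LinearMap.mem_ker]
    change u (n - s (u.rangeRestrict n)) = 0
    rw [map_sub, hsu, sub_self]
  have hM0 : ∀ m : M, u.rangeRestrict (m : N) = 0 := fun m => Subtype.ext (LinearMap.mem_ker.1 m.2)
  let eN : N ≃ₗ[A] M × K :=
    LinearEquiv.ofLinear (ρ.prod u.rangeRestrict) (M.subtype.coprod s)
      (LinearMap.ext fun ⟨m, k⟩ => by
        have hk : u.rangeRestrict (s k) = k := LinearMap.congr_fun hs k
        refine Prod.ext (Subtype.ext ?_) ?_
        · change ((m : N) + s k) - s (u.rangeRestrict ((m : N) + s k)) = m
          rw [map_add, hM0, zero_add, hk, add_sub_cancel_right]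
        · change u.rangeRestrict ((m : N) + s k) = k
          rw [map_add, hM0, zero_add, hk])
      (LinearMap.ext fun n => by
        change (n - s (u.rangeRestrict n)) + s (u.rangeRestrict n) = n
        rw [sub_add_cancel])
  have : Module.Finite A M := Module.Finite.of_surjective ρ fun m => ⟨m, Subtype.ext (by
    change (m : N) - s (u.rangeRestrict (m : N)) = m
    rw [hM0, map_zero, sub_zero])⟩
  have hinj : Function.Injective u ↔ Subsingleton M := by
    rw [← LinearMap.ker_eq_bot, Submodule.subsingleton_iff_eq_bot]
  have hN : fdim N x = fdim M x + Module.finrank A K := by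
    rw [fdim_congr N eN, fdim_prod, fdim_eq_finrank (P := K)]
  have hF : Module.finrank A F = Module.finrank A K + Module.finrank A N' := by
    rw [eF.finrank_eq, Module.finrank_prod]
  refine ⟨fun h => ?_, ?_⟩
  · exact Module.Free.of_equiv (LinearEquiv.ofBijective u.rangeRestrict
      ⟨fun a b hab => h (congrArg Subtype.val hab), u.surjective_rangeRestrict⟩).symm
  · rw [hinj, ← fdim_closedPoint_eq_zero_iff (A := A) (M := M), hN, fdim_eq_finrank (P := N'), hF]
    change _ ↔ fdim M x = 0
    omega

/-- The step at a prime, in the presence of `0 → M → N → F → N' → 0`. -/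
theorem step (q : PrimeSpectrum A) {M N F N' : Type u} [AddCommGroup M] [Module A M]
    [AddCommGroup N] [Module A N] [Module.Finite A N] [AddCommGroup F] [Module A F]
    [Module.Free A F] [Module.Finite A F] [AddCommGroup N'] [Module A N'] [Module.Finite A N']
    (ι : M →ₗ[A] N) (u : N →ₗ[A] F) (v : F →ₗ[A] N') (hι : Function.Injective ι)
    (hex₁ : Function.Exact ι u) (hex₂ : Function.Exact u v) (hv : Function.Surjective v)
    (hN' : Module.Free (Localization.AtPrime q.asIdeal) (Localization.AtPrime q.asIdeal ⊗[A] N')) :
    (q ∉ Module.support A M →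
      Module.Free (Localization.AtPrime q.asIdeal) (Localization.AtPrime q.asIdeal ⊗[A] N)) ∧
    (fdim N q + fdim N' q = Module.finrank A F ↔ q ∉ Module.support A M) := by
  let B := Localization.AtPrime q.asIdeal
  have : Module.Flat A B := IsLocalization.flat B q.asIdeal.primeCompl
  have : Nontrivial A := ⟨⟨0, 1, fun h => q.isPrime.ne_top ((Ideal.eq_top_iff_one _).2 (h ▸ zero_mem _))⟩⟩
  have h1 : Function.Exact (ι.baseChange B) (u.baseChange B) := Module.Flat.lTensor_exact B hex₁
  have h2 : Function.Exact (u.baseChange B) (v.baseChange B) := Module.Flat.lTensor_exact B hex₂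
  have h3 : Function.Surjective (v.baseChange B) := LinearMap.lTensor_surjective B hv
  have h4 : Function.Injective (ι.baseChange B) :=
    Module.Flat.lTensor_preserves_injective_linearMap ι hι
  have key := local_step (u.baseChange B) (v.baseChange B) h2 h3
  have hq : PrimeSpectrum.comap (algebraMap A B) (IsLocalRing.closedPoint B) = q :=
    PrimeSpectrum.ext (IsLocalization.AtPrime.comap_maximalIdeal B q.asIdeal)
  have hsupp : q ∉ Module.support A M ↔ Function.Injective (u.baseChange B) := by
    have e : Function.Injective (u.baseChange B) ↔ Subsingleton (B ⊗[A] M) := by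
      rw [← LinearMap.ker_eq_bot, LinearMap.exact_iff.1 h1, ← Submodule.subsingleton_iff_eq_bot]
      exact ((LinearEquiv.ofInjective _ h4).toEquiv.subsingleton_congr).symm
    rw [e, Module.mem_support_iff, not_nontrivial_iff_subsingleton]
    exact (LocalizedModule.equivTensorProduct q.asIdeal.primeCompl M).toEquiv.subsingleton_congr
  refine ⟨fun h => key.1 (hsupp.1 h), ?_⟩
  rw [hsupp, ← key.2, fdim_baseChange, fdim_baseChange, hq, Module.finrank_baseChange]

end Groth.Agent.Lib.SuppLoci77.Algebra
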