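import Groth.Prelude.Def_DCoh2
import Groth.Prelude.Def_CohB1
import Groth.Agent.Lib.Modules.Stalk
import Mathlib.CategoryTheory.Functor.Derived.RightDerived
import Mathlib.Algebra.Homology.DerivedCategory.ExactFunctor

/-!
# Derived global sections on a scheme with one point
-/

set_option autoImplicit false
set_option linter.style.haveILetI false

universe u

open CategoryTheory Limits AlgebraicGeometry Opposite

namespace Groth.Agent.Lib.SuppLoci77.Point

attribute [local instance] HasDerivedCategory.standard

open Groth.Agent.Lib.Modules.Stalk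

variable {X : Scheme.{u}} [Subsingleton X] (x : X)

lemma bijective_germ (M : X.Modules) :
    Function.Bijective (M.presheaf.germ ⊤ x trivial) := by
  constructor
  · intro s t h
    refine TopCat.Presheaf.section_ext (⟨M.presheaf, M.isSheaf⟩ : TopCat.Sheaf AddCommGrpCat.{u} X)
      ⊤ s t fun y hy => ?_
    obtain rfl := Subsingleton.elim x y
    exact h
  · intro a
    obtain ⟨U, hx, s, rfl⟩ := TopCat.Presheaf.germ_exist M.presheaf a
    obtain rfl : U = ⊤ := eq_top_iff.2 fun y _ => Subsingleton.elim x y ▸ hx
    exact ⟨s, rfl⟩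

noncomputable def gammaIso : DCoh.gammaAb X ≅ stalkFunctor X x :=
  NatIso.ofComponents (fun M : X.Modules =>
    @asIso _ _ _ _ (M.presheaf.germ ⊤ x trivial)
      ((ConcreteCategory.isIso_iff_bijective _).2 (bijective_germ x M))) (fun f => by
      exact (TopCat.Presheaf.stalkFunctor_map_germ ⊤ x trivial f.mapPresheaf).symm)

omit [Subsingleton X] in
lemma isZero_stalk_iff (M : X.Modules) :
    IsZero ((stalkFunctor X x).obj M) ↔ x ∉ CohB1.support M := by
  refine ⟨fun h hs => hs (AddCommGrpCat.subsingleton_of_isZero h), fun h => ?_⟩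
  have : Subsingleton ((stalkFunctor X x).obj M) := not_not.mp h
  exact AddCommGrpCat.isZero_of_subsingleton _

lemma subsingleton_sections_iff (M : X.Modules) :
    Subsingleton Γ(M, ⊤) ↔ x ∉ CohB1.support M := by
  refine Iff.trans ?_ not_not.symm
  exact (Equiv.ofBijective _ (bijective_germ x M)).subsingleton_congr

/-- On a scheme with one point the cohomology of `RΓ` is the stalk of the cohomology sheaf. -/
theorem isZero_homology_RΓ_iff [DCoh.HasRΓ X] (K : DCoh.D X) (i : ℤ) :
    IsZero ((DerivedCategory.homologyFunctor AddCommGrpCat.{u} i).obj ((DCoh.RΓ X).obj K)) ↔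
      x ∉ CohB1.support (DCoh.HD K i) := by
  let F := DCoh.gammaAb X
  haveI : PreservesFiniteLimits F := preservesFiniteLimits_of_natIso (gammaIso x).symm
  haveI : PreservesFiniteColimits (stalkFunctor X x) :=
    PreservesColimitsOfSize.preservesFiniteColimits _
  haveI : PreservesFiniteColimits F := preservesFiniteColimits_of_natIso (gammaIso x).symm
  let W := HomotopyCategory.quasiIso X.Modules (ComplexShape.up ℤ)
  let e : DerivedCategory.Qh ⋙ F.mapDerivedCategory ≅ DCoh.gammaKh X :=
    F.mapDerivedCategoryFactorsh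
  haveI : (F.mapDerivedCategory).IsRightDerivedFunctor e.inv W :=
    Functor.isRightDerivedFunctor_of_inverts W F.mapDerivedCategory e
  let eR : DCoh.RΓ X ≅ F.mapDerivedCategory :=
    Functor.rightDerivedUnique (DCoh.RΓ X) F.mapDerivedCategory
      ((DCoh.gammaKh X).totalRightDerivedUnit DerivedCategory.Qh W) e.inv W
  let C := DerivedCategory.Q.objPreimage K
  let eK := DerivedCategory.Q.objObjPreimageIso K
  let h₁ : (DerivedCategory.homologyFunctor AddCommGrpCat.{u} i).obj ((DCoh.RΓ X).obj K) ≅
      ((F.mapHomologicalComplex (ComplexShape.up ℤ)).obj C).homology i :=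
    (DerivedCategory.homologyFunctor _ i).mapIso
      (eR.app K ≪≫ F.mapDerivedCategory.mapIso eK.symm ≪≫ F.mapDerivedCategoryFactors.app C) ≪≫
    (DerivedCategory.homologyFunctorFactors AddCommGrpCat.{u} i).app _
  let h₂ : ((F.mapHomologicalComplex (ComplexShape.up ℤ)).obj C).homology i ≅
      (stalkFunctor X x).obj (DCoh.HD K i) :=
    ((C.sc i).mapHomologyIso F) ≪≫ (gammaIso x).app _ ≪≫ (stalkFunctor X x).mapIso
      (((DerivedCategory.homologyFunctorFactors X.Modules i).app C).symm ≪≫
        (DerivedCategory.homologyFunctor X.Modules i).mapIso eK)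
  exact ((h₁ ≪≫ h₂).isZero_iff).trans (isZero_stalk_iff x _)

end Groth.Agent.Lib.SuppLoci77.Point
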