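import Groth.Agent.Lib.SuppLoci77.Algebra
import Groth.Agent.Lib.SuppLoci77.Point
import Groth.Agent.Lib.Perfect.FibreDim
import Groth.Agent.Lib.Perfect.Coherent
import Groth.Agent.Lib.DualSch.Trivial
import Groth.Agent.Lib.QCoh.Tilde
import Groth.Agent.Lib.Modules.Support

/-!
# The top cohomology sheaf of a perfect object and its derived fibre
-/

set_option autoImplicit false
set_option linter.style.haveILetI false

universe u

open CategoryTheory Limits AlgebraicGeometry Opposite

namespace Groth.Agent.Lib.SuppLoci77.Chart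

open Groth.Agent.Lib Groth.Agent.Lib.Perfect.Basic Groth.Agent.Lib.Perfect.EulerChar

attribute [local instance] HasDerivedCategory.standard

variable {R : CommRingCat.{u}}

/-- A complex of finite free modules on an affine scheme comes from a complex of modules. -/
theorem exists_module_model (E : CochainComplex (Spec R).Modules ℤ) (n : ℤ → ℕ)
    (he : ∀ k, Nonempty (E.X k ≅ FlatMod.freeMod (Spec R) (n k))) :
    ∃ (C : CochainComplex (ModuleCat.{u} R) ℤ),
      (∀ k, C.X k = ModuleCat.of R (Fin (n k) → R)) ∧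
      Nonempty (E ≅ ((tilde.functor R).mapHomologicalComplex (ComplexShape.up ℤ)).obj C) := by
  let P : ℤ → ModuleCat.{u} R := fun k => ModuleCat.of R (Fin (n k) → R)
  let φ : ∀ k, E.X k ≅ (tilde.functor R).obj (P k) := fun k => (he k).some ≪≫
    (Kaehler.LocFree.tildeFreeIso (M := P k) (Pi.basisFun R (Fin (n k)))).symm
  let d : ∀ k, P k ⟶ P (k + 1) := fun k =>
    (tilde.fullyFaithfulFunctor (R := R)).preimage ((φ k).inv ≫ E.d k (k + 1) ≫ (φ (k + 1)).hom)
  have hd : ∀ k, (tilde.functor R).map (d k) = (φ k).inv ≫ E.d k (k + 1) ≫ (φ (k + 1)).hom :=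
    fun k => (tilde.fullyFaithfulFunctor (R := R)).map_preimage _
  have sq : ∀ k, d k ≫ d (k + 1) = 0 := fun k => by
    refine (tilde.fullyFaithfulFunctor (R := R)).map_injective ?_
    rw [Functor.map_comp, hd, hd, Functor.map_zero]
    simp
  refine ⟨CochainComplex.of P d sq, fun k => rfl, ⟨HomologicalComplex.Hom.isoOfComponents φ ?_⟩⟩
  rintro i j (rfl : i + 1 = j)
  change (φ i).hom ≫ (tilde.functor R).map ((CochainComplex.of P d sq).d i (i + 1)) = _
  have e : (CochainComplex.of P d sq).d i (i + 1) = d i := CochainComplex.of_d _ _ _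
  rw [e]
  exact (congrArg ((φ i).hom ≫ ·) (hd i)).trans (Iso.hom_inv_id_assoc _ _)

variable (C : CochainComplex (ModuleCat.{u} R) ℤ)

/-- `0 → Hⁱ → coker dⁱ⁻¹ → Cⁱ⁺¹ → coker dⁱ → 0`. -/
theorem exact_opcycles (i : ℤ) :
    Function.Injective (C.homologyι i).hom ∧
    Function.Exact (C.homologyι i).hom (C.fromOpcycles i (i + 1)).hom ∧
    Function.Exact (C.fromOpcycles i (i + 1)).hom (C.pOpcycles (i + 1)).hom ∧
    Function.Surjective (C.pOpcycles (i + 1)).hom := by
  refine ⟨(ModuleCat.mono_iff_injective _).1 inferInstance, ?_, ?_,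
    (ModuleCat.epi_iff_surjective _).1 inferInstance⟩
  · exact (ShortComplex.ShortExact.moduleCat_exact_iff_function_exact
      (ShortComplex.mk _ _ (C.homologyι_comp_fromOpcycles i (i + 1)))).1
      (ShortComplex.exact_of_f_is_kernel _ (C.homologyIsKernel i (i + 1) (by simp)))
  · have h1 : (ShortComplex.mk _ _ (C.d_pOpcycles i (i + 1))).Exact :=
      ShortComplex.exact_of_g_is_cokernel _ (C.opcyclesIsCokernel i (i + 1) (by simp))
    rw [ShortComplex.ShortExact.moduleCat_exact_iff_function_exact] at h1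
    intro f
    refine (h1 f).trans ⟨?_, ?_⟩
    · rintro ⟨a, rfl⟩
      exact ⟨(C.pOpcycles i).hom a, by
        rw [← LinearMap.comp_apply, ← ModuleCat.hom_comp, C.p_fromOpcycles]⟩
    · rintro ⟨a, rfl⟩
      obtain ⟨b, rfl⟩ := (ModuleCat.epi_iff_surjective (C.pOpcycles i)).1 inferInstance a
      exact ⟨b, by rw [← LinearMap.comp_apply, ← ModuleCat.hom_comp, C.p_fromOpcycles]⟩

theorem finitePresentation_opcycles (i : ℤ) [Module.Finite R (C.X (i - 1))]
    [Module.FinitePresentation R (C.X i)] : Module.FinitePresentation R (C.opcycles i) := by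
  have h1 : (ShortComplex.mk _ _ (C.d_pOpcycles (i - 1) i)).Exact :=
    ShortComplex.exact_of_g_is_cokernel _ (C.opcyclesIsCokernel (i - 1) i (by simp))
  rw [ShortComplex.ShortExact.moduleCat_exact_iff_function_exact] at h1
  refine Module.finitePresentation_of_surjective (C.pOpcycles i).hom
    ((ModuleCat.epi_iff_surjective _).1 inferInstance) ?_
  rw [LinearMap.exact_iff.1 h1, LinearMap.range_eq_map]
  exact Module.Finite.fg_top.map _

theorem exists_stalk_free (n : ℤ → ℕ) (hn : n.HasFiniteSupport)
    (hC : ∀ k, C.X k = ModuleCat.of R (Fin (n k) → R)) (q : PrimeSpectrum R) :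
    ∃ B : ℤ, ∀ k, B < k →
      Module.Free (Localization.AtPrime q.asIdeal)
        (TensorProduct R (Localization.AtPrime q.asIdeal) (C.opcycles k)) ∧
      q ∉ Module.support R (C.homology k) := by
  obtain ⟨B, hB⟩ := hn.bddAbove
  refine ⟨B, fun k hk => ?_⟩
  have h0 : n k = 0 := by
    by_contra h
    exact absurd (hB h) (not_le.2 hk)
  have : Subsingleton (C.X k) := by
    rw [hC k, h0]
    exact inferInstanceAs (Subsingleton (Fin 0 → R))
  have : Subsingleton (C.opcycles k) :=
    ((ModuleCat.epi_iff_surjective (C.pOpcycles k)).1 inferInstance).subsingleton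
  have : Subsingleton (C.homology k) :=
    ((ModuleCat.mono_iff_injective (C.homologyι k)).1 inferInstance).subsingleton
  exact ⟨Module.Free.of_subsingleton _ _, fun h =>
    not_nontrivial_iff_subsingleton.2 inferInstance (Module.mem_support_iff.1 h)⟩

theorem main_algebra (n : ℤ → ℕ) (hn : n.HasFiniteSupport)
    (hC : ∀ k, C.X k = ModuleCat.of R (Fin (n k) → R)) (q : PrimeSpectrum R) (i : ℤ)
    (h : ∀ l, i < l → q ∉ Module.support R (C.homology l)) :
    (FlatCx.Rank.fdim (A := R) (C.opcycles i) q + FlatCx.Rank.fdim (A := R) (C.opcycles (i + 1)) q =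
      n (i + 1) ↔ q ∉ Module.support R (C.homology i)) := by
  have hfree : ∀ k, Module.Free R (C.X k) := fun k => by rw [hC k]; infer_instance
  have hfp : ∀ k, Module.FinitePresentation R (C.X k) := fun k => by rw [hC k]; infer_instance
  have hfin : ∀ k, Module.Finite R (C.X k) := fun k => inferInstance
  have hop : ∀ k, Module.Finite R (C.opcycles k) := fun k =>
    Module.Finite.of_surjective (C.pOpcycles k).hom ((ModuleCat.epi_iff_surjective _).1 inferInstance)
  have hrk : ∀ k, Module.finrank R (C.X k) = n k := fun k => by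
    have : Nontrivial R := ⟨⟨0, 1, fun h => q.isPrime.ne_top ((Ideal.eq_top_iff_one _).2 (h ▸ zero_mem _))⟩⟩
    rw [hC k]
    exact Module.finrank_fin_fun R
  obtain ⟨B, hB⟩ := exists_stalk_free C n hn hC q
  have hF : ∀ k, i < k → Module.Free (Localization.AtPrime q.asIdeal)
      (TensorProduct R (Localization.AtPrime q.asIdeal) (C.opcycles k)) := by
    suffices ∀ (d : ℕ) (k : ℤ), i < k → B - k ≤ d → Module.Free (Localization.AtPrime q.asIdeal)
        (TensorProduct R (Localization.AtPrime q.asIdeal) (C.opcycles k)) from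
      fun k hk => this (B - k).toNat k hk (Int.self_le_toNat _)
    intro d
    induction d with
    | zero =>
      intro k hk hd
      rcases lt_or_ge B k with hBk | hBk
      · exact (hB k hBk).1
      · obtain ⟨h1, h2, h3, h4⟩ := exact_opcycles C k
        exact (Algebra.step q _ _ _ h1 h2 h3 h4 (hB (k + 1) (by omega)).1).1 (h k hk)
    | succ d ih =>
      intro k hk hd
      obtain ⟨h1, h2, h3, h4⟩ := exact_opcycles C k
      exact (Algebra.step q _ _ _ h1 h2 h3 h4 (ih (k + 1) (by omega) (by omega))).1 (h k hk)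
  obtain ⟨h1, h2, h3, h4⟩ := exact_opcycles C i
  have := (Algebra.step q _ _ _ h1 h2 h3 h4 (hF (i + 1) (by omega))).2
  rwa [hrk] at this

/-- Above every degree where the stalks vanish, the derived fibre detects the stalk of the
cohomology sheaf of a perfect object. -/
theorem fibre_detects {X : Scheme.{u}} {K : DCoh.D X} (hK : DCoh.IsPerfect K) (y : X)
    [DCoh.HasLpull (X.fromSpecResidueField y)] :
    ∃ B : ℤ, (∀ l, B < l → y ∉ CohB1.support (DCoh.HD K l)) ∧
      ∀ i : ℤ, 0 ≤ i → (∀ l, i < l → y ∉ CohB1.support (DCoh.HD K l)) →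
        (Subsingleton Γ(DCoh.HD ((DCoh.Lpull (X.fromSpecResidueField y)).obj K) i, ⊤) ↔
          y ∉ CohB1.support (DCoh.HD K i)) := by
  open Groth.Agent.Lib.Perfect in
  have hpc : PseudoCoh.PCAt (-1) K y := by
    obtain ⟨U, j, _, v, E, hv, hE, ⟨e⟩⟩ := (Triangle.isPerfect_iff K).1 hK y
    exact ⟨U, j, inferInstance, v, E, e.inv, hv, hE, Ascent.Good.of_isIso _ _⟩
  obtain ⟨R, j, _, q, E, α, n, hq, hE, hα, hn, he⟩ := Perfect.FibreDim.exists_chart hpc
  obtain ⟨C, hC, ⟨eC⟩⟩ := exists_module_model E n he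
  haveI : PreservesFiniteLimits (tilde.functor R) := inferInstance
  haveI : PreservesColimitsOfSize.{0, 0} (tilde.functor R) :=
    tilde.adjunction.leftAdjoint_preservesColimits
  haveI : PreservesFiniteColimits (tilde.functor R) :=
    PreservesColimitsOfSize.preservesFiniteColimits _
  have hsupp : ∀ l : ℤ, -1 < l →
      (y ∈ CohB1.support (DCoh.HD K l) ↔
        (q : PrimeSpectrum R) ∈ Module.support R (C.homology l)) := fun l hl => by
    haveI := hα.1 l hl
    let i1 : (DCoh.HD K l).restrict j ≅ (tilde.functor R).obj (C.homology l) :=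
      (Perfect.Coherent.homologyIso j K l).symm ≪≫
        (asIso ((DerivedCategory.homologyFunctor _ l).map α)).symm ≪≫
        (DerivedCategory.homologyFunctorFactors _ l).app E ≪≫
        (HomologicalComplex.homologyFunctor _ _ l).mapIso eC ≪≫
        ((C.sc l).mapHomologyIso (tilde.functor R))
    refine Iff.trans ?_ (DualSch.Trivial.mem_support_tilde R (C.homology l) q)
    rw [← hq]
    have h1 := Modules.Support.support_restrict j (DCoh.HD K l)
    refine Iff.trans (Iff.of_eq (congrArg (fun S : Set (Spec R) => q ∈ S) h1.symm)) ?_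
    exact not_congr ((Modules.Stalk.stalkFunctor _ q).mapIso i1).addCommGroupIsoToAddEquiv.toEquiv.subsingleton_congr
  obtain ⟨B, hB⟩ := exists_stalk_free C n hn hC q
  refine ⟨max B 0, fun l hl => fun h => (hB l (lt_of_le_of_lt (le_max_left _ _) hl)).2
    ((hsupp l (by omega)).1 h), fun i hi hvan => ?_⟩
  have hcok : ∀ k, Nonempty (cokernel (E.d (k - 1) k) ≅ tilde (C.opcycles k)) := fun k =>
    ⟨IsColimit.coconePointUniqueUpToIso
        (s := CokernelCofork.ofπ (cokernel.π (E.d (k - 1) k)) (cokernel.condition _))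
        (cokernelIsCokernel _)
        (E.opcyclesIsCokernel (k - 1) k (by simp)) ≪≫
      (HomologicalComplex.opcyclesFunctor _ _ k).mapIso eC ≪≫
      (C.sc k).mapOpcyclesIso (tilde.functor R)⟩
  have hfp : ∀ k, Module.FinitePresentation R (C.opcycles k) := fun k => by
    haveI : Module.Finite R (C.X (k - 1)) := by rw [hC]; infer_instance
    haveI : Module.FinitePresentation R (C.X k) := by rw [hC]; infer_instance
    exact finitePresentation_opcycles C k
  let L := X.residueField y
  have hL : IsField L := Field.toIsField (IsLocalRing.ResidueField (X.presheaf.stalk y))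
  have hdeg := Perfect.FibreDim.deg_fibre j (X.fromSpecResidueField y) hL hE α hα n he
    (fun k => C.opcycles k) hfp hcok q (fun z => by rw [hq]; exact Scheme.fromSpecResidueField_apply _ z)
    i (by omega)
  have halg := main_algebra C n hn hC q i fun l hl => fun h =>
    hvan l hl ((hsupp l (by omega)).2 h)
  have halg := halg.trans (not_congr (hsupp i (by omega))).symm
  have hdeg' : deg (Spec L) (DCoh.HD ((DCoh.Lpull (X.fromSpecResidueField y)).obj K) i) +
      ((n (i + 1) : ℕ) : ℤ) = ((FlatCx.Rank.fdim (A := R) (C.opcycles i) q : ℕ) : ℤ) +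
        ((FlatCx.Rank.fdim (A := R) (C.opcycles (i + 1)) q : ℕ) : ℤ) := hdeg
  have hdeg0 : deg (Spec L) (DCoh.HD ((DCoh.Lpull (X.fromSpecResidueField y)).obj K) i) = 0 ↔
      y ∉ CohB1.support (DCoh.HD K i) := by
    rw [← halg]
    constructor <;> intro h <;> omega
  rw [← hdeg0]
  have hF : IsField Γ(Spec L, ⊤) :=
    ((Scheme.ΓSpecIso L).commRingCatIsoToRingEquiv.toMulEquiv).isField hL
  letI := hF.toField
  haveI : IsNoetherianRing L := by letI := hL.toField; infer_instance
  have hcoh : Coh.IsCoh (DCoh.HD ((DCoh.Lpull (X.fromSpecResidueField y)).obj K) i) :=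
    Perfect.Coherent.isCohD_of_isPerfect (Perfect.Pullback.isPerfect_Lpull _ hK) i
  haveI := CohBasics.Closure.finite_sections hcoh (isAffineOpen_top (Spec L))
  haveI := Module.Free.of_divisionRing Γ(Spec L, ⊤)
    Γ(DCoh.HD ((DCoh.Lpull (X.fromSpecResidueField y)).obj K) i, ⊤)
  unfold deg
  rw [Nat.cast_eq_zero, Module.finrank_zero_iff]

end Groth.Agent.Lib.SuppLoci77.Chart
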