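import Groth.Agent.Lib.SuppLoci77.Algebra
import Groth.Agent.S0321
import Groth.Agent.Lib.QDepth.Sk
import Mathlib.RingTheory.Spectrum.Prime.FreeLocus
import Mathlib.RingTheory.Ideal.Height

/-!
# Complexes of free modules over Cohen–Macaulay local rings with small cohomology

If `0 → Hʲ → Eʲ → Lʲ⁺¹ → Eʲ⁺¹ → 0`, the `L`'s are free, `Eᵃ` is free and the `Hʲ` (`j ≥ a`) are
supported at the closed point, then `Hʲ = 0` for `j < a + depth A`.
-/

set_option autoImplicit false
set_option linter.style.haveILetI false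

universe u

open TensorProduct Module LocCoh

namespace Groth.Agent.Lib.SuppLoci77.Depth

open Groth.Agent.Lib.FlatCx.Rank

section Local

variable {A : Type u} [CommRing A] [IsLocalRing A] [IsNoetherianRing A]

theorem depth_pi (n : ℕ) :
    LocCoh.depth A A ≤ LocCoh.depth A (Fin n → A) := by
  induction n with
  | zero =>
    rw [LocCoh.depth, LocCoh.depth, Groth.Agent.Lib.Depth.Basic.idealDepth_subsingleton (M := Fin 0 → A)]
    exact le_top
  | succ n ih =>
    let e : (Fin (n + 1) → A) ≃ₗ[A] A × (Fin n → A) := (Fin.consLinearEquiv A fun _ => A).symm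
    have h := (Groth.Agent.S0321.result A (IsLocalRing.maximalIdeal A) A (Fin (n + 1) → A) (Fin n → A)
      (e.symm.toLinearMap ∘ₗ LinearMap.inl A A (Fin n → A))
      (LinearMap.snd A A (Fin n → A) ∘ₗ e.toLinearMap)
      (e.symm.injective.comp LinearMap.inl_injective)
      ((LinearMap.snd_surjective (R := A) (M := A) (M₂ := Fin n → A)).comp e.surjective)
      (fun y => by
        simp only [LinearMap.comp_apply, LinearEquiv.coe_coe, Set.mem_range, LinearMap.snd_apply,
          LinearEquiv.symm_apply_eq]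
        exact ⟨fun hy => ⟨(e y).1, Prod.ext rfl hy.symm⟩, fun ⟨x, hx⟩ => by rw [← hx]; rfl⟩)).1
    exact le_trans (le_min le_rfl ih) h

theorem depth_free (L : Type u) [AddCommGroup L] [Module A L] [Module.Free A L] [Module.Finite A L] :
    LocCoh.depth A A ≤ LocCoh.depth A L := by
  let e := (Module.finBasis A L).equivFun.symm
  have h := (Groth.Agent.S0321.result A (IsLocalRing.maximalIdeal A) PUnit.{u + 1}
    (Fin (Module.finrank A L) → A) L 0 e.toLinearMap (Function.injective_of_subsingleton _)
    e.surjective (fun y => by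
      simp only [LinearEquiv.coe_coe, LinearEquiv.map_eq_zero_iff]
      exact ⟨fun hy => ⟨0, hy.symm⟩, fun ⟨z, hz⟩ => hz.symm⟩)).2.1
  rw [Groth.Agent.Lib.Depth.Basic.idealDepth_subsingleton (M := PUnit.{u + 1})] at h
  exact le_trans (le_min (depth_pi _) (by simp)) h

/-- A submodule supported at the closed point of a module of positive depth is zero. -/
theorem subsingleton_of_depth_pos {H E : Type u} [AddCommGroup H] [Module A H] [Module.Finite A H]
    [AddCommGroup E] [Module A E] [Module.Finite A E] (ι : H →ₗ[A] E) (hι : Function.Injective ι)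
    (hs : ∀ P ∈ Module.support A H, P = IsLocalRing.closedPoint A)
    (hd : (1 : ℕ∞) ≤ LocCoh.depth A E) : Subsingleton H := by
  by_cases hE : Subsingleton E
  · exact hι.subsingleton
  have hne : IsLocalRing.maximalIdeal A • (⊤ : Submodule A E) ≠ ⊤ := fun h => hE <| by
    have := Submodule.eq_bot_of_le_smul_of_le_jacobson_bot (IsLocalRing.maximalIdeal A) ⊤
      Module.Finite.fg_top h.ge (IsLocalRing.maximalIdeal_le_jacobson _)
    exact (Submodule.subsingleton_iff A).1 (subsingleton_of_bot_eq_top this.symm)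
  rw [LocCoh.depth, LocCoh.idealDepth, if_neg hne] at hd
  obtain ⟨r, hrm, hr⟩ : ∃ r ∈ IsLocalRing.maximalIdeal A, IsSMulRegular E r := by
    by_contra hcon
    push Not at hcon
    have : (⨆ (rs : List A) (_ : RingTheory.Sequence.IsWeaklyRegular E rs ∧
        ∀ r ∈ rs, r ∈ IsLocalRing.maximalIdeal A), (rs.length : ℕ∞)) ≤ 0 := by
      refine iSup₂_le fun rs ⟨h1, h2⟩ => ?_
      cases rs with
      | nil => simp
      | cons r rs =>
        exact absurd ((RingTheory.Sequence.isWeaklyRegular_cons_iff E r rs).1 h1).1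
          (hcon r (h2 r (by simp)))
    exact absurd (hd.trans this) (by simp)
  have hrad : r ∈ (Module.annihilator A H).radical := by
    rw [Ideal.radical_eq_sInf, Submodule.mem_sInf]
    rintro P ⟨hP, hPp⟩
    have := hs ⟨P, hPp⟩ (by rw [Module.support_eq_zeroLocus]; exact hP)
    have e : P = IsLocalRing.maximalIdeal A := congrArg PrimeSpectrum.asIdeal this
    rw [e]; exact hrm
  obtain ⟨N, hN⟩ := hrad
  refine ⟨fun a b => hι (IsSMulRegular.pow N hr (?_ : r ^ N • ι a = r ^ N • ι b))⟩
  rw [← map_smul, ← map_smul, Module.mem_annihilator.1 hN a, Module.mem_annihilator.1 hN b]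

/-- The dévissage. -/
theorem tail_zero (H E L : ℤ → Type u) [∀ j, AddCommGroup (H j)] [∀ j, Module A (H j)]
    [∀ j, Module.Finite A (H j)] [∀ j, AddCommGroup (E j)] [∀ j, Module A (E j)]
    [∀ j, Module.Finite A (E j)] [∀ j, AddCommGroup (L j)] [∀ j, Module A (L j)]
    [∀ j, Module.Free A (L j)] [∀ j, Module.Finite A (L j)]
    (ι : ∀ j, H j →ₗ[A] E j) (u : ∀ j, E j →ₗ[A] L (j + 1)) (v : ∀ j, L (j + 1) →ₗ[A] E (j + 1))
    (hι : ∀ j, Function.Injective (ι j)) (h₁ : ∀ j, Function.Exact (ι j) (u j))
    (h₂ : ∀ j, Function.Exact (u j) (v j)) (h₃ : ∀ j, Function.Surjective (v j))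
    (a : ℤ) (ha : Module.Free A (E a)) (δ : ℕ) (hδ : (δ : ℕ∞) ≤ LocCoh.depth A A)
    (hs : ∀ j, a ≤ j → ∀ P ∈ Module.support A (H j), P = IsLocalRing.closedPoint A) :
    ∀ j, a ≤ j → j < a + δ → Subsingleton (H j) := by
  have key : ∀ t : ℕ, t ≤ δ → ((δ - t : ℕ) : ℕ∞) ≤ LocCoh.depth A (E (a + t)) := by
    intro t
    induction t with
    | zero =>
      intro _
      haveI : Module.Free A (E (a + (0 : ℕ))) := by
        rw [show (a + ((0 : ℕ) : ℤ)) = a by omega]
        exact ha
      exact le_trans (by simpa using hδ) (depth_free _)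
    | succ t ih =>
      intro ht
      have ih := ih (by omega)
      have hH : Subsingleton (H (a + t)) := subsingleton_of_depth_pos (ι _) (hι _) (hs _ (by omega))
        (le_trans (by exact_mod_cast (show 1 ≤ δ - t by omega)) ih)
      have hu : Function.Injective (u (a + t)) := by
        rw [← LinearMap.ker_eq_bot, LinearMap.exact_iff.1 (h₁ _), LinearMap.range_eq_bot]
        exact LinearMap.ext fun x => by rw [Subsingleton.elim x 0, map_zero, map_zero]
      have h := (Groth.Agent.S0321.result A (IsLocalRing.maximalIdeal A) (E (a + t)) (L (a + t + 1))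
        (E (a + t + 1)) (u _) (v _) hu (h₃ _) (h₂ _)).2.1
      rw [show (a + ((t + 1 : ℕ) : ℤ)) = a + t + 1 by push_cast; ring]
      refine le_trans (le_min ?_ ?_) h
      · exact le_trans (le_trans (by exact_mod_cast (show δ - (t + 1) ≤ δ by omega)) hδ) (depth_free _)
      · refine le_trans ?_ (tsub_le_tsub_right ih 1)
        rw [show ((δ - t : ℕ) : ℕ∞) - 1 = ((δ - t - 1 : ℕ) : ℕ∞) from (ENat.natCast_sub _ 1).symm]
        exact_mod_cast (show δ - (t + 1) ≤ δ - t - 1 by omega)
  intro j hj hjd
  obtain ⟨t, rfl⟩ : ∃ t : ℕ, j = a + t := ⟨(j - a).toNat, by omega⟩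
  exact subsingleton_of_depth_pos (ι _) (hι _) (hs _ (by omega))
    (le_trans (by exact_mod_cast (show 1 ≤ δ - t by omega)) (key t (by omega)))

/-- If the fibre dimensions add up, the cokernel is free. -/
theorem free_of_fdim_add {N L N' : Type u} [AddCommGroup N] [Module A N] [Module.Finite A N]
    [AddCommGroup L] [Module A L] [Module.Free A L] [Module.Finite A L] [AddCommGroup N']
    [Module A N'] [Module.Finite A N'] (u : N →ₗ[A] L) (v : L →ₗ[A] N')
    (hex : Function.Exact u v) (hv : Function.Surjective v)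
    (hd : fdim N (IsLocalRing.closedPoint A) + fdim N' (IsLocalRing.closedPoint A) =
      Module.finrank A L) : Module.Free A N' := by
  have gen : ∀ (M : Type u) [AddCommGroup M] [Module A M] [Module.Finite A M],
      ∃ g : (Fin (fdim M (IsLocalRing.closedPoint A)) → A) →ₗ[A] M, Function.Surjective g := by
    intro M _ _ _
    obtain ⟨g, hg⟩ := exists_generators_near M (IsLocalRing.closedPoint A)
    refine ⟨g, LinearMap.range_eq_top.1 ?_⟩
    by_contra hne
    haveI : Nontrivial (M ⧸ LinearMap.range g) := Submodule.Quotient.nontrivial_iff.2 hne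
    exact hg (IsLocalRing.closedPoint_mem_support A _)
  obtain ⟨g, hg⟩ := gen N
  obtain ⟨g', hg'⟩ := gen N'
  obtain ⟨G, hG⟩ := Module.projective_lifting_property v g' hv
  let φ := (u ∘ₗ g).coprod G
  have hφ : Function.Surjective φ := by
    intro l
    obtain ⟨x, hx⟩ := hg' (v l)
    have : v (l - G x) = 0 := by
      rw [map_sub, show v (G x) = g' x from LinearMap.congr_fun hG x, hx, sub_self]
    obtain ⟨n, hn⟩ := (hex _).1 this
    obtain ⟨y, rfl⟩ := hg n
    exact ⟨(y, x), by
      change u (g y) + G x = l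
      rw [hn, sub_add_cancel]⟩
  let e : L ≃ₗ[A] (Fin (fdim N (IsLocalRing.closedPoint A)) → A) ×
      (Fin (fdim N' (IsLocalRing.closedPoint A)) → A) := LinearEquiv.ofFinrankEq _ _ (by
    rw [Module.finrank_prod, Module.finrank_fin_fun, Module.finrank_fin_fun, hd])
  have hbij := OrzechProperty.bijective_of_surjective_endomorphism (e.toLinearMap ∘ₗ φ)
    (e.surjective.comp hφ)
  refine Module.Free.of_equiv (LinearEquiv.ofBijective g' ⟨?_, hg'⟩)
  rw [← LinearMap.ker_eq_bot, Submodule.eq_bot_iff]
  intro x hx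
  have : v (G x) = 0 := (LinearMap.congr_fun hG x).trans hx
  obtain ⟨n, hn⟩ := (hex _).1 this
  obtain ⟨y, rfl⟩ := hg n
  have h0 : φ (-y, x) = 0 := by
    change u (g (-y)) + G x = 0
    rw [map_neg, map_neg, hn, neg_add_cancel]
  have := hbij.1 ((congrArg e h0).trans ((map_zero e).trans (map_zero (e.toLinearMap ∘ₗ φ)).symm))
  exact congrArg Prod.snd this

end Local

end Groth.Agent.Lib.SuppLoci77.Depth
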