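import Groth.Agent.Lib.SuppLoci77.Depth
import Groth.Agent.Lib.SuppLoci77.Chart
import Groth.Agent.Lib.DMod.SupportDim
import Groth.Agent.Lib.Excellent.Transport

/-!
# A vanishing fibre cohomology group kills the higher cohomology stalks
-/

set_option autoImplicit false
set_option linter.style.haveILetI false

universe u

open CategoryTheory Limits AlgebraicGeometry Opposite

namespace Groth.Agent.Lib.SuppLoci77.Vanish

open Groth.Agent.Lib Groth.Agent.Lib.FlatCx.Rank

section Algebra

open TensorProduct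

variable {R : CommRingCat.{u}} [IsNoetherianRing R] (C : CochainComplex (ModuleCat.{u} R) ℤ)

theorem vanish_algebra (n : ℤ → ℕ) (hn : n.HasFiniteSupport)
    (hC : ∀ k, C.X k = ModuleCat.of R (Fin (n k) → R)) (q : PrimeSpectrum R) (i k' : ℕ) (hk : k' ≤ i)
    (hCM : ∀ p : PrimeSpectrum R, LocCoh.IsCohenMacaulayLocalRing (Localization.AtPrime p.asIdeal))
    (hcod : ∀ (l : ℕ) (p : PrimeSpectrum R), p ∈ Module.support R (C.homology (l : ℤ)) →
      ((l - k' : ℕ) : WithBot ℕ∞) ≤ ringKrullDim (Localization.AtPrime p.asIdeal))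
    (hd : fdim (A := R) (C.opcycles i) q + fdim (A := R) (C.opcycles ((i : ℤ) + 1)) q =
      n ((i : ℤ) + 1)) :
    ∀ l : ℤ, (i : ℤ) < l → q ∉ Module.support R (C.homology l) := by
  have hfree : ∀ k, Module.Free R (C.X k) := fun k => by rw [hC k]; infer_instance
  have hfin : ∀ k, Module.Finite R (C.X k) := fun k => by rw [hC k]; infer_instance
  have hop : ∀ k, Module.Finite R (C.opcycles k) := fun k =>
    Module.Finite.of_surjective (C.pOpcycles k).hom ((ModuleCat.epi_iff_surjective _).1 inferInstance)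
  have hHf : ∀ k, Module.Finite R (C.homology k) := fun k =>
    Module.Finite.of_injective (C.homologyι k).hom ((ModuleCat.mono_iff_injective _).1 inferInstance)
  have hfp : Module.FinitePresentation R (C.opcycles ((i : ℤ) + 1)) :=
    (Module.finitePresentation_iff_finite R _).2 inferInstance
  have hrk : Module.finrank R (C.X ((i : ℤ) + 1)) = n ((i : ℤ) + 1) := by
    haveI : Nontrivial R := ⟨⟨0, 1, fun h => q.isPrime.ne_top ((Ideal.eq_top_iff_one _).2 (h ▸ zero_mem _))⟩⟩
    rw [hC]
    exact Module.finrank_fin_fun R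
  -- the cokernel is free at `q`, hence at all its generizations
  have hq : q ∈ Module.freeLocus R (C.opcycles ((i : ℤ) + 1)) := by
    let B := Localization.AtPrime q.asIdeal
    haveI : Module.Flat R B := IsLocalization.flat B q.asIdeal.primeCompl
    haveI : Nontrivial R := ⟨⟨0, 1, fun h => q.isPrime.ne_top ((Ideal.eq_top_iff_one _).2 (h ▸ zero_mem _))⟩⟩
    obtain ⟨-, -, h3, h4⟩ := Chart.exact_opcycles C (i : ℤ)
    have hc : PrimeSpectrum.comap (algebraMap R B) (IsLocalRing.closedPoint B) = q :=
      PrimeSpectrum.ext (IsLocalization.AtPrime.comap_maximalIdeal B q.asIdeal)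
    have := Depth.free_of_fdim_add ((C.fromOpcycles (i : ℤ) ((i : ℤ) + 1)).hom.baseChange B)
      ((C.pOpcycles ((i : ℤ) + 1)).hom.baseChange B) (Module.Flat.lTensor_exact B h3)
      (LinearMap.lTensor_surjective B h4)
      (by rw [fdim_baseChange, fdim_baseChange, hc, Module.finrank_baseChange, hd, hrk])
    rw [Module.mem_freeLocus]
    exact Module.Free.of_equiv (LocalizedModule.equivTensorProduct q.asIdeal.primeCompl _).symm
  suffices ∀ (m : ℕ) (p : PrimeSpectrum R), p ≤ q → p.asIdeal.height ≤ m →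
      ∀ l : ℤ, (i : ℤ) < l → p ∉ Module.support R (C.homology l) by
    intro l hl
    obtain ⟨m, hm⟩ := ENat.ne_top_iff_exists.1 (Ideal.height_ne_top q.isPrime.ne_top)
    exact this m q le_rfl hm.ge l hl
  intro m
  induction m using Nat.strong_induction_on with
  | _ m ih =>
  intro p hpq hm l hl hsup
  let B := Localization.AtPrime p.asIdeal
  haveI : Module.Flat R B := IsLocalization.flat B p.asIdeal.primeCompl
  haveI : LocCoh.IsCohenMacaulayLocalRing B := hCM p
  haveI : Module.Free B (B ⊗[R] C.opcycles ((i : ℤ) + 1)) :=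
    haveI hp : Module.Free B (LocalizedModule p.asIdeal.primeCompl (C.opcycles ((i : ℤ) + 1))) :=
      Module.mem_freeLocus.1 (Module.isOpen_freeLocus.stableUnderGeneralization
        ((PrimeSpectrum.le_iff_specializes p q).1 hpq) hq)
    Module.Free.of_equiv (LocalizedModule.equivTensorProduct p.asIdeal.primeCompl _)
  obtain ⟨δ, hδ⟩ := ENat.ne_top_iff_exists.1 (Ideal.height_ne_top p.isPrime.ne_top)
  have hdim : ringKrullDim B = ((δ : ℕ∞) : WithBot ℕ∞) := by
    rw [IsLocalization.AtPrime.ringKrullDim_eq_height p.asIdeal B, ← hδ]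
  have hdep : (δ : ℕ∞) ≤ LocCoh.depth B B := by
    have := LocCoh.IsCohenMacaulayLocalRing.supportDim_eq_depth (R := B)
    rw [Module.supportDim_self_eq_ringKrullDim, hdim] at this
    exact (WithBot.coe_injective this).le
  have hz := Depth.tail_zero (A := B) (fun j => B ⊗[R] C.homology j) (fun j => B ⊗[R] C.opcycles j)
    (fun j => B ⊗[R] C.X j) (fun j => (C.homologyι j).hom.baseChange B)
    (fun j => (C.fromOpcycles j (j + 1)).hom.baseChange B)
    (fun j => (C.pOpcycles (j + 1)).hom.baseChange B)
    (fun j => Module.Flat.lTensor_preserves_injective_linearMap _ (Chart.exact_opcycles C j).1)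
    (fun j => Module.Flat.lTensor_exact B (Chart.exact_opcycles C j).2.1)
    (fun j => Module.Flat.lTensor_exact B (Chart.exact_opcycles C j).2.2.1)
    (fun j => LinearMap.lTensor_surjective B (Chart.exact_opcycles C j).2.2.2)
    ((i : ℤ) + 1) inferInstance δ hdep (fun j hj P hP => ?_) l (by omega) ?_
  · refine not_nontrivial_iff_subsingleton.2
      ((LocalizedModule.equivTensorProduct p.asIdeal.primeCompl _).toEquiv.subsingleton_congr.2 hz) ?_
    exact Module.mem_support_iff.1 hsup
  · -- supports
    have hP' : PrimeSpectrum.comap (algebraMap R B) P ∈ Module.support R (C.homology j) := by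
      rw [← DMod.SupportDim.comap_mem_support_iff p]
      rw [(LocalizedModule.equivTensorProduct p.asIdeal.primeCompl _).support_eq]
      exact hP
    by_contra hne
    have hlt : P.asIdeal < IsLocalRing.maximalIdeal B :=
      lt_of_le_of_ne (IsLocalRing.le_maximalIdeal P.isPrime.ne_top) fun h => hne (PrimeSpectrum.ext h)
    have hlt' : (PrimeSpectrum.comap (algebraMap R B) P).asIdeal < p.asIdeal := by
      refine lt_of_le_of_ne ?_ fun h => hlt.ne ?_
      · exact le_of_le_of_eq (Ideal.comap_mono hlt.le) (IsLocalization.AtPrime.comap_maximalIdeal B p.asIdeal)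
      · refine (IsLocalization.map_under p.asIdeal.primeCompl B P.asIdeal).symm.trans ?_
        rw [show P.asIdeal.under R = p.asIdeal from h,
          ← IsLocalization.AtPrime.map_eq_maximalIdeal p.asIdeal B]
    have hh := (Ideal.height_strict_mono_of_isPrime_of_isPrime hlt').trans_le hm
    obtain ⟨m', hm'⟩ := ENat.ne_top_iff_exists.1
      (Ideal.height_ne_top (PrimeSpectrum.comap (algebraMap R B) P).isPrime.ne_top)
    rw [← hm', Nat.cast_lt] at hh
    exact ih m' hh _ ((PrimeSpectrum.asIdeal_le_asIdeal _ _).1 (le_trans hlt'.le hpq)) hm'.ge j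
      (by omega) hP'
  · obtain ⟨l', rfl⟩ : ∃ l' : ℕ, l = l' := ⟨l.toNat, by omega⟩
    have := hcod l' p hsup
    rw [hdim] at this
    have h' : l' - k' ≤ δ := Nat.cast_le.1 (show ((l' - k' : ℕ) : WithBot ℕ∞) ≤ (δ : WithBot ℕ∞) from this)
    omega

end Algebra

open Groth.Agent.Lib.Perfect.Basic Groth.Agent.Lib.Perfect.EulerChar

attribute [local instance] HasDerivedCategory.standard

/-- Under the codimension bounds, a vanishing fibre group in degree `i ≥ k'` forces the next one to
vanish. -/
theorem fibre_succ {X : Scheme.{u}} [IsLocallyNoetherian X]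
    (hCM : ∀ z : X, LocCoh.IsCohenMacaulayLocalRing (X.presheaf.stalk z)) {K : DCoh.D X}
    (hK : DCoh.IsPerfect K) (k' i : ℕ) (hk : k' ≤ i)
    (hcod : ∀ (l : ℕ) (z : X), z ∈ CohB1.support (DCoh.HD K (l : ℤ)) →
      ((l - k' : ℕ) : WithBot ℕ∞) ≤ ringKrullDim (X.presheaf.stalk z))
    (y : X) [DCoh.HasLpull (X.fromSpecResidueField y)]
    (h : Subsingleton Γ(DCoh.HD ((DCoh.Lpull (X.fromSpecResidueField y)).obj K) (i : ℤ), ⊤)) :
    Subsingleton Γ(DCoh.HD ((DCoh.Lpull (X.fromSpecResidueField y)).obj K) ((i : ℤ) + 1), ⊤) := by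
  have hpc : Perfect.PseudoCoh.PCAt (-1) K y := by
    obtain ⟨U, j, _, v, E, hv, hE, ⟨e⟩⟩ := (Perfect.Triangle.isPerfect_iff K).1 hK y
    exact ⟨U, j, inferInstance, v, E, e.inv, hv, hE, Perfect.Ascent.Good.of_isIso _ _⟩
  obtain ⟨R, j, _, q, E, α, n, hq, hE, hα, hn, he⟩ := Perfect.FibreDim.exists_chart hpc
  obtain ⟨C, hC, ⟨eC⟩⟩ := Chart.exists_module_model E n he
  haveI : PreservesFiniteLimits (tilde.functor R) := inferInstance
  haveI : PreservesColimitsOfSize.{0, 0} (tilde.functor R) :=
    tilde.adjunction.leftAdjoint_preservesColimits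
  haveI : PreservesFiniteColimits (tilde.functor R) :=
    PreservesColimitsOfSize.preservesFiniteColimits _
  have hsupp : ∀ (p : Spec R) (l : ℤ), -1 < l →
      (j p ∈ CohB1.support (DCoh.HD K l) ↔
        (p : PrimeSpectrum R) ∈ Module.support R (C.homology l)) := fun p l hl => by
    haveI := hα.1 l hl
    let i1 : (DCoh.HD K l).restrict j ≅ (tilde.functor R).obj (C.homology l) :=
      (Perfect.Coherent.homologyIso j K l).symm ≪≫
        (asIso ((DerivedCategory.homologyFunctor _ l).map α)).symm ≪≫
        (DerivedCategory.homologyFunctorFactors _ l).app E ≪≫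
        (HomologicalComplex.homologyFunctor _ _ l).mapIso eC ≪≫
        ((C.sc l).mapHomologyIso (tilde.functor R))
    refine Iff.trans ?_ (DualSch.Trivial.mem_support_tilde R (C.homology l) p)
    have h1 := Modules.Support.support_restrict j (DCoh.HD K l)
    refine Iff.trans (Iff.of_eq (congrArg (fun S : Set (Spec R) => p ∈ S) h1.symm)) ?_
    exact not_congr ((Modules.Stalk.stalkFunctor _ p).mapIso i1).addCommGroupIsoToAddEquiv.toEquiv.subsingleton_congr
  obtain ⟨B, hB, hdet⟩ := Chart.fibre_detects hK y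
  have hcok : ∀ k, Nonempty (cokernel (E.d (k - 1) k) ≅ tilde (C.opcycles k)) := fun k =>
    ⟨IsColimit.coconePointUniqueUpToIso
        (s := CokernelCofork.ofπ (cokernel.π (E.d (k - 1) k)) (cokernel.condition _))
        (cokernelIsCokernel _)
        (E.opcyclesIsCokernel (k - 1) k (by simp)) ≪≫
      (HomologicalComplex.opcyclesFunctor _ _ k).mapIso eC ≪≫
      (C.sc k).mapOpcyclesIso (tilde.functor R)⟩
  have hfp : ∀ k, Module.FinitePresentation R (C.opcycles k) := fun k => by
    haveI : Module.Finite R (C.X (k - 1)) := by rw [hC]; infer_instance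
    haveI : Module.FinitePresentation R (C.X k) := by rw [hC]; infer_instance
    exact Chart.finitePresentation_opcycles C k
  let L := X.residueField y
  have hL : IsField L := Field.toIsField (IsLocalRing.ResidueField (X.presheaf.stalk y))
  have hdeg := Perfect.FibreDim.deg_fibre j (X.fromSpecResidueField y) hL hE α hα n he
    (fun k => C.opcycles k) hfp hcok q (fun z => by rw [hq]; exact Scheme.fromSpecResidueField_apply _ z)
    (i : ℤ) (by omega)
  haveI : IsLocallyNoetherian (Spec R) := isLocallyNoetherian_of_isOpenImmersion j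
  haveI : IsNoetherianRing R := isLocallyNoetherian_Spec.1 inferInstance
  let eq : ∀ p : Spec R, X.presheaf.stalk (j p) ≃+* Localization.AtPrime (p : PrimeSpectrum R).asIdeal :=
    fun p => (asIso (j.stalkMap p)).commRingCatIsoToRingEquiv.trans
      (StructureSheaf.stalkIso R p).symm.toRingEquiv
  have hdeg' : deg (Spec L) (DCoh.HD ((DCoh.Lpull (X.fromSpecResidueField y)).obj K) (i : ℤ)) +
      ((n ((i : ℤ) + 1) : ℕ) : ℤ) = ((fdim (A := R) (C.opcycles (i : ℤ)) q : ℕ) : ℤ) +
        ((fdim (A := R) (C.opcycles ((i : ℤ) + 1)) q : ℕ) : ℤ) := hdeg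
  have h0 : deg (Spec L) (DCoh.HD ((DCoh.Lpull (X.fromSpecResidueField y)).obj K) (i : ℤ)) = 0 := by
    unfold deg
    rw [Nat.cast_eq_zero]
    exact Module.finrank_zero_of_subsingleton
  have hv := vanish_algebra C n hn hC q i k' hk
    (fun p => by
      haveI := hCM (j p)
      exact Excellent.Transport.isCohenMacaulayLocalRing_of_ringEquiv (eq p))
    (fun l p hp => by
      rw [← ringKrullDim_eq_of_ringEquiv (eq p)]
      exact hcod l (j p) ((hsupp p (l : ℤ) (by omega)).2 hp))
    (by omega)
  have hy : ∀ l : ℤ, (i : ℤ) < l → y ∉ CohB1.support (DCoh.HD K l) := fun l hl hs =>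
    hv l hl ((hsupp q l (by omega)).1 (hq.symm ▸ hs))
  exact (hdet ((i : ℤ) + 1) (by omega) fun l hl => hy l (by omega)).2 (hy _ (by omega))

end Groth.Agent.Lib.SuppLoci77.Vanish
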